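/-
Gorenstein-Herstein: a finite group with a fixed-point-free automorphism `s` with `s ^ 4 = 1` is solvable.

Direct proof: with `C` the fixed points of `s * s` and `I` the elements inverted by `s * s`, every
`x ∈ I` commutes with `s x`, so the prime power parts of elements of `I` lie in the invariant Sylow
subgroups; counting then shows that parts for different primes commute, so `⟨I⟩` is normal, nilpotent
with abelian quotient.
-/
import Mathlib.GroupTheory.FixedPointFree
import Cfsg.Agent.S0031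
import Cfsg.Agent.Lib.Cores.Fitting
import Cfsg.Agent.Lib.Transfer.Criteria

set_option autoImplicit false

namespace Cfsg.Agent.FPFFour

open Subgroup

universe u

variable {G : Type u} [Group G] [Finite G]

/-- The standing hypothesis. -/
structure Hyp (s : G ≃* G) : Prop where
  fpf : ∀ g, s g = g → g = 1
  four : ∀ g, s (s (s (s g))) = g

variable {s : G ≃* G}

/-- The fixed points of `s * s`. -/
def cSub (s : G ≃* G) : Subgroup G where
  carrier := {g | s (s g) = g}
  one_mem' := by simp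
  mul_mem' := by intro x y hx hy; simp only [Set.mem_setOf_eq, map_mul] at *; rw [hx, hy]
  inv_mem' := by intro x hx; simp only [Set.mem_setOf_eq, map_inv] at *; rw [hx]

theorem mem_cSub {g : G} : g ∈ cSub s ↔ s (s g) = g := Iff.rfl

/-- The elements inverted by `s * s`. -/
def iSet (s : G ≃* G) : Set G := {g | s (s g) = g⁻¹}

theorem mem_iSet {g : G} : g ∈ iSet s ↔ s (s g) = g⁻¹ := Iff.rfl

theorem odd_card (h : Hyp s) : Odd (Nat.card G) := by
  haveI : Fact (Nat.Prime 2) := ⟨Nat.prime_two⟩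
  let f : Function.End G := fun x => s x
  have hp : f ^ 2 ^ 2 = 1 := by
    funext x
    show f (f (f (f x))) = x
    exact h.four x
  classical
  have := Fintype.ofFinite G
  have hmod := Equiv.Perm.card_fixedPoints_modEq (α := G) (p := 2) hp
  have h1 : Fintype.card (Function.fixedPoints f) = 1 := by
    rw [Fintype.card_eq_one_iff]
    exact ⟨⟨1, map_one s⟩, fun x => Subtype.ext (h.fpf x.1 x.2)⟩
  rw [h1, ← Nat.card_eq_fintype_card] at hmod
  exact Nat.odd_iff.mpr hmod

/-- Restriction to an invariant subgroup. -/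
noncomputable def res (s : G ≃* G) (H : Subgroup G) (hH : ∀ x ∈ H, s x ∈ H) : H ≃* H :=
  MulEquiv.ofBijective ((s.toMonoidHom.comp H.subtype).codRestrict H fun x => hH x x.2)
    (Finite.injective_iff_bijective.mp fun a b e =>
      Subtype.ext (s.injective (congrArg Subtype.val e :)))

theorem res_apply (H : Subgroup G) (hH : ∀ x ∈ H, s x ∈ H) (x : H) :
    ((res s H hH x : H) : G) = s x := rfl

theorem res_fpf (h : Hyp s) (H : Subgroup G) (hH : ∀ x ∈ H, s x ∈ H) :
    MonoidHom.FixedPointFree ((res s H hH : H ≃* H) : H →* H) := fun x hx =>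
  Subtype.ext (h.fpf x.1 (congrArg Subtype.val hx :))

theorem apply_cSub (h : Hyp s) {c : G} (hc : c ∈ cSub s) : s c = c⁻¹ := by
  have hinv : ∀ x ∈ cSub s, s x ∈ cSub s := fun x hx => by
    show s (s (s x)) = s x
    exact congrArg s hx
  have e := MonoidHom.FixedPointFree.coe_eq_inv_of_involutive (res_fpf h (cSub s) hinv)
    (fun x => Subtype.ext (show s (s (x : G)) = x from x.2))
  exact congrArg Subtype.val (congrFun e ⟨c, hc⟩)

theorem commute_cSub (h : Hyp s) {a b : G} (ha : a ∈ cSub s) (hb : b ∈ cSub s) : Commute a b := by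
  have hab := apply_cSub h (mul_mem ha hb)
  rw [map_mul, apply_cSub h ha, apply_cSub h hb, mul_inv_rev] at hab
  exact Commute.inv_inv_iff.mp hab

theorem inv_mem_iSet {x : G} (hx : x ∈ iSet s) : x⁻¹ ∈ iSet s := by
  show s (s x⁻¹) = x⁻¹⁻¹
  rw [map_inv, map_inv, mem_iSet.mp hx]

theorem apply_mem_iSet {x : G} (hx : x ∈ iSet s) : s x ∈ iSet s := by
  show s (s (s x)) = (s x)⁻¹
  rw [mem_iSet.mp hx, map_inv]

theorem zpow_mem_iSet {x : G} (hx : x ∈ iSet s) (i : ℤ) : x ^ i ∈ iSet s := by
  show s (s (x ^ i)) = (x ^ i)⁻¹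
  rw [map_zpow, map_zpow, mem_iSet.mp hx, inv_zpow]

theorem conj_mem_iSet {c x : G} (hc : c ∈ cSub s) (hx : x ∈ iSet s) : c * x * c⁻¹ ∈ iSet s := by
  show s (s (c * x * c⁻¹)) = (c * x * c⁻¹)⁻¹
  rw [map_mul, map_mul, map_mul, map_mul, map_inv, map_inv, mem_cSub.mp hc, mem_iSet.mp hx]
  group

/-- The key relation. -/
theorem commute_apply (h : Hyp s) {x : G} (hx : x ∈ iSet s) : Commute x (s x) := by
  obtain ⟨k, hk⟩ := MonoidHom.FixedPointFree.commutatorMap_surjective
    (φ := (s : G →* G)) (fun g hg => h.fpf g hg) x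
  have hk' : k / s k = x := hk
  have e : x * s x * s (s x) * s (s (s x)) = 1 := by
    rw [← hk', map_div, map_div, map_div, h.four]
    simp [div_eq_mul_inv, mul_assoc]
  rw [mem_iSet.mp hx, map_inv] at e
  have e2 : x * s x = s x * x := by
    have := mul_inv_eq_one.mp e
    exact mul_inv_eq_iff_eq_mul.mp this
  exact e2

theorem exists_sqrt (h : Hyp s) (H : Subgroup G) {y : G} (hy : y ∈ H) (hyI : y ∈ iSet s) :
    ∃ z ∈ H, z ∈ iSet s ∧ z * z = y := by
  obtain ⟨k, hk⟩ := odd_card h
  refine ⟨y ^ (k + 1), pow_mem hy _, ?_, ?_⟩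
  · rw [← zpow_natCast]; exact zpow_mem_iSet hyI _
  · rw [← pow_add, show (k + 1) + (k + 1) = Nat.card G + 1 by omega, pow_succ,
      pow_card_eq_one', one_mul]

theorem iSet_inj (h : Hyp s) {x x' : G} (e : x * x = x' * x') : x = x' := by
  obtain ⟨k, hk⟩ := odd_card h
  have key : ∀ z : G, z = (z * z) ^ (k + 1) := fun z => by
    rw [← pow_two, ← pow_mul, show 2 * (k + 1) = Nat.card G + 1 by omega, pow_succ,
      pow_card_eq_one', one_mul]
  rw [key x, key x', e]

theorem exists_decomp (h : Hyp s) (H : Subgroup G) (hH : ∀ x ∈ H, s x ∈ H) {g : G} (hg : g ∈ H) :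
    ∃ c ∈ cSub s, c ∈ H ∧ ∃ x ∈ iSet s, x ∈ H ∧ g = c * x := by
  have hy : g⁻¹ * s (s g) ∈ H := mul_mem (inv_mem hg) (hH _ (hH _ hg))
  have hyI : g⁻¹ * s (s g) ∈ iSet s := by
    show s (s (g⁻¹ * s (s g))) = (g⁻¹ * s (s g))⁻¹
    rw [map_mul, map_mul, map_inv, map_inv, h.four]
    group
  obtain ⟨z, hzH, hzI, hz⟩ := exists_sqrt h H hy hyI
  refine ⟨g * z, ?_, mul_mem hg hzH, z⁻¹, inv_mem_iSet hzI, inv_mem hzH, by group⟩
  show s (s (g * z)) = g * z
  rw [map_mul, map_mul, mem_iSet.mp hzI]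
  calc s (s g) * z⁻¹ = g * (g⁻¹ * s (s g)) * z⁻¹ := by group
    _ = g * (z * z) * z⁻¹ := by rw [hz]
    _ = g * z := by group

theorem card_decomp (h : Hyp s) (H : Subgroup G) (hH : ∀ x ∈ H, s x ∈ H) :
    Nat.card ↥(cSub s ⊓ H : Subgroup G) * Nat.card ↥(iSet s ∩ (H : Set G)) = Nat.card H := by
  rw [← Nat.card_prod]
  refine Nat.card_congr (Equiv.ofBijective
    (fun p => ⟨p.1.1 * p.2.1, mul_mem p.1.2.2 p.2.2.2⟩) ⟨?_, ?_⟩)
  · rintro ⟨⟨c, hc, _⟩, ⟨x, hx, _⟩⟩ ⟨⟨c', hc', _⟩, ⟨x', hx', _⟩⟩ e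
    have e1 : c * x = c' * x' := congrArg Subtype.val e
    have e2 := congrArg (fun g => s (s g)) e1
    simp only [map_mul, mem_cSub.mp hc, mem_cSub.mp hc', mem_iSet.mp hx, mem_iSet.mp hx'] at e2
    have e3 : c'⁻¹ * c = x' * x⁻¹ := by
      rw [eq_mul_inv_iff_mul_eq, mul_assoc, inv_mul_eq_iff_eq_mul]; exact e1
    have e4 : c'⁻¹ * c = x'⁻¹ * x := by
      have : c'⁻¹ * (c * x⁻¹) * x = c'⁻¹ * (c' * x'⁻¹) * x := by rw [e2]
      calc c'⁻¹ * c = c'⁻¹ * (c * x⁻¹) * x := by group
        _ = c'⁻¹ * (c' * x'⁻¹) * x := this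
        _ = x'⁻¹ * x := by group
    have e5 : x' * x' = x * x := by
      have := e3.symm.trans e4
      calc x' * x' = x' * (x' * x⁻¹) * x := by group
        _ = x' * (x'⁻¹ * x) * x := by rw [this]
        _ = x * x := by group
    obtain rfl := iSet_inj h e5
    obtain rfl := mul_right_cancel e1
    rfl
  · rintro ⟨g, hg⟩
    obtain ⟨c, hc, hcH, x, hx, hxH, rfl⟩ := exists_decomp h H hH hg
    exact ⟨⟨⟨c, hc, hcH⟩, ⟨x, hx, hxH⟩⟩, rfl⟩

theorem exists_invSylow (h : Hyp s) (r : ℕ) [Fact r.Prime] :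
    ∃ P : Sylow r G, (∀ x ∈ (P : Subgroup G), s x ∈ (P : Subgroup G)) ∧
      ∀ R : Subgroup G, IsPGroup r R → (∀ x ∈ R, s x ∈ R) → R ≤ (P : Subgroup G) := by
  classical
  obtain ⟨P, hP⟩ := S0031.result s (fun g hg => h.fpf g hg) r
  have hPinv : ∀ x ∈ (P : Subgroup G), s x ∈ (P : Subgroup G) := fun x hx =>
    hP ▸ Subgroup.mem_map_of_mem (s : G →* G) hx
  refine ⟨P, hPinv, fun R hR hRinv => ?_⟩
  -- a maximal invariant `r`-subgroup containing `R`
  let S : Set (Subgroup G) := {Q | IsPGroup r Q ∧ (∀ x ∈ Q, s x ∈ Q) ∧ R ≤ Q}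
  obtain ⟨Q, hQ, hQmax⟩ := (Set.toFinite S).exists_maximal ⟨R, hR, hRinv, le_rfl⟩
  obtain ⟨hQp, hQinv, hRQ⟩ := hQ
  set N := normalizer (Q : Set G) with hN
  have hQeq : Q.map (s : G →* G) = Q := by
    refine Subgroup.eq_of_le_of_card_ge (by rintro _ ⟨x, hx, rfl⟩; exact hQinv x hx) ?_
    rw [Subgroup.card_map_of_injective s.injective]
  have hNinv : ∀ x ∈ N, s x ∈ N := by
    intro x hx
    rw [hN, Subgroup.mem_normalizer_iff] at hx ⊢
    have hiff : ∀ z, s z ∈ Q ↔ z ∈ Q := fun z =>
      ⟨fun hz => by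
        rw [← hQeq] at hz
        obtain ⟨w, hw, e⟩ := hz
        exact s.injective e ▸ hw, hQinv z⟩
    intro y
    obtain ⟨w, rfl⟩ := s.surjective y
    rw [← map_inv, ← map_mul, ← map_mul, hiff, hiff]
    exact hx w
  obtain ⟨T, hT⟩ := S0031.result (res s N hNinv) (res_fpf h N hNinv) r
  have hTinv : ∀ x ∈ (T : Subgroup N).map N.subtype, s x ∈ (T : Subgroup N).map N.subtype := by
    rintro _ ⟨x, hx, rfl⟩
    exact ⟨res s N hNinv x, hT ▸ Subgroup.mem_map_of_mem _ hx, rfl⟩
  have hQN : Q ≤ N := Subgroup.le_normalizer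
  haveI : (Q.subgroupOf N).Normal := Subgroup.normal_in_normalizer
  haveI : (Q.comap N.subtype).Normal := ‹(Q.subgroupOf N).Normal›
  have hQT : Q ≤ (T : Subgroup N).map N.subtype := fun x hx =>
    ⟨⟨x, hQN hx⟩, (hQp.comap_subtype (K := N)).le_sylow_of_normal T
      (Subgroup.mem_subgroupOf.mpr hx), rfl⟩
  have hTQ : (T : Subgroup N).map N.subtype = Q :=
    le_antisymm (hQmax ⟨T.2.map _, hTinv, hRQ.trans hQT⟩ hQT) hQT
  -- hence `Q` is a Sylow subgroup of `G`
  obtain ⟨U, hU⟩ := hQp.exists_le_sylow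
  have hUQ : (U : Subgroup G) = Q := by
    by_contra hne
    haveI : Group.IsNilpotent (U : Subgroup G) := U.2.isNilpotent
    have hlt : Q.subgroupOf (U : Subgroup G) < ⊤ := lt_top_iff_ne_top.mpr fun e =>
      hne (le_antisymm (Subgroup.subgroupOf_eq_top.mp e) hU)
    have hlt2 := Group.normalizerCondition_of_isNilpotent (G := (U : Subgroup G)) _ hlt
    obtain ⟨x, hx, hxQ⟩ := SetLike.exists_of_lt hlt2
    have hxN : (x : G) ∈ N := by
      rw [hN, Subgroup.mem_normalizer_iff]
      rw [Subgroup.mem_normalizer_iff] at hx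
      intro y
      constructor
      · intro hy
        exact (hx ⟨y, hU hy⟩).mp hy
      · intro hy
        have hyU : y ∈ (U : Subgroup G) := by
          have h1 := mul_mem (mul_mem (inv_mem x.2) (hU hy)) x.2
          simpa [mul_assoc] using h1
        exact (hx ⟨y, hyU⟩).mpr hy
    have hsup : IsPGroup r ↥(Q.subgroupOf N ⊔ zpowers (⟨x, hxN⟩ : N)) := by
      refine (hQp.comap_subtype (K := N)).to_sup_of_normal_left ?_
      refine (IsPGroup.to_le (H := zpowers ((x : G))) (K := (U : Subgroup G)) U.2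
        (zpowers_le.mpr x.2) |>.comap_subtype (K := N)).to_le ?_
      rw [zpowers_le]
      exact mem_zpowers (x : G)
    obtain ⟨T', hT'⟩ := hsup.exists_le_sylow
    have hcard : Nat.card (T' : Subgroup N) = Nat.card (Q.subgroupOf N) := by
      rw [T'.card_eq_multiplicity, ← T.card_eq_multiplicity]
      refine congrArg (fun K : Subgroup N => Nat.card K) ?_
      refine Subgroup.map_injective N.subtype_injective ?_
      rw [hTQ, Subgroup.map_subgroupOf_eq_of_le hQN]
    have heq := Subgroup.eq_of_le_of_card_ge (le_sup_left.trans hT') hcard.le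
    exact hxQ (Subgroup.mem_subgroupOf.mpr (Subgroup.mem_subgroupOf.mp
      (heq ▸ hT' (Subgroup.mem_sup_right (mem_zpowers _)) :)))
  -- the two invariant Sylow subgroups are conjugate by a fixed point of the coset
  obtain ⟨g, hg⟩ := MulAction.exists_smul_eq G P U
  have key : ∀ a : G, ((a • P : Sylow r G) : Subgroup G) =
      (P : Subgroup G).map (MulAut.conj a).toMonoidHom := fun a => rfl
  have hgQ : Q = (P : Subgroup G).map (MulAut.conj g).toMonoidHom := by rw [← hUQ, ← hg, key]
  have hn : g⁻¹ * s g ∈ normalizer ((P : Subgroup G) : Set G) := by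
    rw [Subgroup.mem_normalizer_iff]
    have hiffP : ∀ z, s z ∈ (P : Subgroup G) ↔ z ∈ (P : Subgroup G) := fun z =>
      ⟨fun hz => by
        rw [← hP] at hz
        obtain ⟨w, hw, e⟩ := hz
        exact s.injective e ▸ hw, hPinv z⟩
    have hiffQ : ∀ z, z ∈ Q ↔ g⁻¹ * z * g ∈ (P : Subgroup G) := fun z => by
      rw [hgQ, Subgroup.mem_map_equiv, MulAut.conj_symm_apply]
    intro y
    obtain ⟨w, rfl⟩ := s.surjective y
    rw [hiffP]
    constructor
    · intro hw
      have h1 : g * w * g⁻¹ ∈ Q := by rw [hiffQ]; simpa [mul_assoc] using hw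
      have h2 := (hiffQ _).mp (hQinv _ h1)
      simpa [map_mul, map_inv, mul_assoc] using h2
    · intro hw
      have h1 : s g * s w * (s g)⁻¹ ∈ Q := by rw [hiffQ]; simpa [mul_assoc] using hw
      have h2 : g * w * g⁻¹ ∈ Q := by
        rw [← hQeq] at h1
        obtain ⟨v, hv, e⟩ := h1
        have : v = g * w * g⁻¹ := s.injective (by simpa [map_mul, map_inv] using e)
        exact this ▸ hv
      simpa [mul_assoc] using (hiffQ _).mp h2
  have hNPinv : ∀ x ∈ normalizer ((P : Subgroup G) : Set G),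
      s x ∈ normalizer ((P : Subgroup G) : Set G) := by
    intro x hx
    rw [Subgroup.mem_normalizer_iff] at hx ⊢
    have hiffP : ∀ z, s z ∈ (P : Subgroup G) ↔ z ∈ (P : Subgroup G) := fun z =>
      ⟨fun hz => by
        rw [← hP] at hz
        obtain ⟨w, hw, e⟩ := hz
        exact s.injective e ▸ hw, hPinv z⟩
    intro y
    obtain ⟨w, rfl⟩ := s.surjective y
    rw [← map_inv, ← map_mul, ← map_mul, hiffP, hiffP]
    exact hx w
  obtain ⟨k, hk⟩ := MonoidHom.FixedPointFree.commutatorMap_surjective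
    (res_fpf h _ hNPinv) ⟨_, hn⟩
  have hk' : (k : G) / s k = g⁻¹ * s g := congrArg Subtype.val hk
  have hfix : s (g * k) = g * k := by
    rw [map_mul]
    calc s g * s k = g * (g⁻¹ * s g) * s k := by group
      _ = g * ((k : G) / s k) * s k := by rw [hk']
      _ = g * k := by rw [div_eq_mul_inv]; group
  have hgN : g ∈ normalizer ((P : Subgroup G) : Set G) := by
    have := eq_inv_of_mul_eq_one_left (h.fpf _ hfix)
    rw [this]
    exact inv_mem k.2
  have hQP : Q = (P : Subgroup G) := by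
    rw [← hUQ, ← hg, Sylow.smul_eq_iff_mem_normalizer.mpr hgN]
  exact hQP ▸ hRQ

/-- An element of prime power order inverted by `s * s` lies in the invariant Sylow subgroup. -/
theorem mem_invSylow (h : Hyp s) {r : ℕ} [Fact r.Prime] {P : Subgroup G}
    (hP : ∀ R : Subgroup G, IsPGroup r R → (∀ x ∈ R, s x ∈ R) → R ≤ P) {x : G}
    (hx : x ∈ iSet s) (hr : IsPGroup r (zpowers x)) : x ∈ P := by
  have hc := commute_apply h hx
  refine hP (zpowers x ⊔ zpowers (s x)) ?_ ?_ (mem_sup_left (mem_zpowers x))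
  · refine hr.to_sup_of_normal_left' ?_ ?_
    · intro a
      obtain ⟨m, hm⟩ := hr ⟨x, mem_zpowers x⟩
      refine ⟨m, ?_⟩
      obtain ⟨i, hi⟩ := mem_zpowers_iff.mp a.2
      have hm' : x ^ r ^ m = 1 := congrArg Subtype.val hm
      refine Subtype.ext ?_
      show ((a : G)) ^ r ^ m = 1
      rw [← hi, ← zpow_natCast, ← zpow_mul, mul_comm, zpow_mul, zpow_natCast, ← map_pow, hm',
        map_one, one_zpow]
    · rw [zpowers_le]
      refine centralizer_le_normalizer _ ?_
      rw [mem_centralizer_iff]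
      intro a ha
      obtain ⟨i, rfl⟩ := mem_zpowers_iff.mp ha
      exact (hc.zpow_left i)
  · intro a ha
    have hle : (zpowers x ⊔ zpowers (s x)).map (s : G →* G) ≤ zpowers x ⊔ zpowers (s x) := by
      rw [Subgroup.map_sup, MonoidHom.map_zpowers, MonoidHom.map_zpowers]
      refine sup_le le_sup_right (le_sup_of_le_left (zpowers_le.mpr ?_))
      show s (s x) ∈ zpowers x
      rw [mem_iSet.mp hx]
      exact inv_mem (mem_zpowers x)
    exact hle (Subgroup.mem_map_of_mem _ ha)

/-- The `r`-part of an element. -/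
theorem exists_part (x : G) (r : ℕ) [hr : Fact r.Prime] :
    ∃ y ∈ zpowers x, IsPGroup r (zpowers y) ∧ ∃ m : ℕ, ¬ r ∣ m ∧ (x * y⁻¹) ^ m = 1 := by
  have hn : orderOf x ≠ 0 := (orderOf_pos x).ne'
  set k := (orderOf x).factorization r
  set m := orderOf x / r ^ k with hm
  have hrm : ¬ r ∣ m := Nat.not_dvd_ordCompl hr.out hn
  have hprod : r ^ k * m = orderOf x := Nat.ordProj_mul_ordCompl_eq_self _ _
  have hcop : IsCoprime ((r : ℤ) ^ k) (m : ℤ) := by
    rw [← Nat.cast_pow, Int.isCoprime_iff_nat_coprime]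
    simpa using (hr.out.coprime_iff_not_dvd.mpr hrm).pow_left k
  obtain ⟨a, b, hab⟩ := hcop
  refine ⟨x ^ (b * m), zpow_mem_zpowers x _, ?_, m, hrm, ?_⟩
  · intro y
    obtain ⟨i, hi⟩ := mem_zpowers_iff.mp y.2
    refine ⟨k, Subtype.ext ?_⟩
    show (y : G) ^ r ^ k = 1
    have hd : (b * m) * i * ((r ^ k : ℕ) : ℤ) = (orderOf x : ℤ) * (b * i) := by
      rw [← hprod]; push_cast; ring
    rw [← hi, ← zpow_natCast, ← zpow_mul, ← zpow_mul, ← mul_assoc, hd, zpow_mul, zpow_natCast,
      pow_orderOf_eq_one, one_zpow]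
  · have e : x * (x ^ (b * m))⁻¹ = x ^ (a * (r : ℤ) ^ k) := by
      rw [← zpow_neg, ← zpow_one_add, show 1 + -(b * m) = a * (r : ℤ) ^ k by linarith]
    have hd : a * (r : ℤ) ^ k * m = (orderOf x : ℤ) * a := by
      rw [← hprod]; push_cast; ring
    rw [e, ← zpow_natCast, ← zpow_mul, hd, zpow_mul, zpow_natCast, pow_orderOf_eq_one, one_zpow]

/-- A chosen `r`-part (trivial for non-primes). -/
noncomputable def part (r : ℕ) (x : G) : G := by
  classical
  exact if hr : r.Prime then Classical.choose (@exists_part G _ _ x r ⟨hr⟩) else 1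

theorem part_spec (r : ℕ) [hr : Fact r.Prime] (x : G) :
    part r x ∈ zpowers x ∧ IsPGroup r (zpowers (part r x)) ∧
      ∃ m : ℕ, ¬ r ∣ m ∧ (x * (part r x)⁻¹) ^ m = 1 := by
  classical
  have e : part r x = Classical.choose (exists_part x r) := dif_pos hr.out
  rw [e]
  exact Classical.choose_spec (exists_part x r)

theorem mem_zpowers_part {q : ℕ} [hq : Fact q.Prime] {x y : G} (hy : y ∈ zpowers x)
    (hyq : IsPGroup q (zpowers y)) : y ∈ zpowers (part q x) := by
  obtain ⟨hp, hpq, m, hm, hm1⟩ := part_spec q x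
  obtain ⟨i, rfl⟩ := mem_zpowers_iff.mp hy
  obtain ⟨j, hj⟩ := mem_zpowers_iff.mp hp
  set p := part q x with hpdef
  have hc : Commute x p⁻¹ := by
    rw [← hj]; exact ((Commute.refl x).zpow_right j).inv_right
  set w := (x * p⁻¹) ^ i with hw
  have e : x ^ i = p ^ i * w := by
    rw [hw, hc.mul_zpow, inv_zpow, ← hj, ← zpow_mul]
    group
  obtain ⟨k1, hk1⟩ := hyq ⟨_, mem_zpowers (x ^ i)⟩
  obtain ⟨k2, hk2⟩ := hpq ⟨p ^ i, zpow_mem_zpowers p i⟩
  have hk1' : (x ^ i) ^ q ^ k1 = 1 := congrArg Subtype.val hk1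
  have hk2' : (p ^ i) ^ q ^ k2 = 1 := congrArg Subtype.val hk2
  have hw1 : w ^ q ^ (k1 + k2) = 1 := by
    have hw' : w = x ^ i * (p ^ i)⁻¹ := by rw [hw, hc.mul_zpow, inv_zpow]
    have hc2 : Commute (x ^ i) (p ^ i)⁻¹ := by
      rw [← inv_zpow]; exact hc.zpow_zpow i i
    rw [hw', hc2.mul_pow]
    rw [pow_add, pow_mul, hk1', one_pow, one_mul, mul_comm (q ^ k1), pow_mul, inv_pow, hk2',
      inv_one, one_pow]
  have hw2 : w ^ m = 1 := by
    rw [hw, ← zpow_natCast, ← zpow_mul, mul_comm, zpow_mul, zpow_natCast, hm1, one_zpow]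
  have hw0 : w = 1 := by
    rw [← orderOf_eq_one_iff]
    exact Nat.eq_one_of_dvd_coprimes
      ((hq.out.coprime_iff_not_dvd.mpr hm).pow_left (k1 + k2))
      (orderOf_dvd_of_pow_eq_one hw1) (orderOf_dvd_of_pow_eq_one hw2)
  rw [e, hw0, mul_one]
  exact zpow_mem_zpowers p i

theorem eq_of_part_eq {R : Finset ℕ} (hR : ∀ q, q.Prime → q ∣ Nat.card G → q ∈ R) {x x' : G}
    (h : ∀ r ∈ R, part r x = part r x') : x = x' := by
  have hmem : x ∈ zpowers x' := by
    refine Transfer.mem_of_forall_primePow fun q hq y hy ⟨k, hk⟩ => ?_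
    have := Fact.mk hq
    rcases Nat.eq_zero_or_pos k with rfl | hk0
    · rw [pow_zero, orderOf_eq_one_iff] at hk; rw [hk]; exact one_mem _
    have hqd : q ∈ R := hR q hq (((dvd_pow_self q hk0.ne').trans hk.symm.dvd).trans
      (orderOf_dvd_natCard y))
    have hyq : IsPGroup q (zpowers y) := IsPGroup.of_card (by rw [Nat.card_zpowers, hk])
    have h1 := mem_zpowers_part hy hyq
    rw [h q hqd] at h1
    exact (zpowers_le.mpr (part_spec q x').1) h1
  obtain ⟨i, hi⟩ := mem_zpowers_iff.mp hmem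
  rw [← mul_inv_eq_one, ← orderOf_eq_one_iff]
  by_contra hne
  obtain ⟨q, hq, hqd⟩ := Nat.exists_prime_and_dvd hne
  have := Fact.mk hq
  have hqR : q ∈ R := hR q hq (hqd.trans (orderOf_dvd_natCard _))
  obtain ⟨_, _, m, hm, hm1⟩ := part_spec q x
  obtain ⟨hy', _, m', hm', hm1'⟩ := part_spec q x'
  rw [h q hqR] at hm1
  obtain ⟨j, hj⟩ := mem_zpowers_iff.mp hy'
  set a := x * (part q x')⁻¹
  set b := x' * (part q x')⁻¹
  have hab : x * x'⁻¹ = a * b⁻¹ := by simp [a, b, mul_assoc]
  have hcomm : Commute a b⁻¹ := by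
    have h0 : ∀ u ∈ zpowers x', ∀ v ∈ zpowers x', Commute u v := fun u hu v hv => by
      obtain ⟨i, rfl⟩ := mem_zpowers_iff.mp hu
      obtain ⟨j, rfl⟩ := mem_zpowers_iff.mp hv
      exact (Commute.refl x').zpow_zpow i j
    exact h0 _ (mul_mem hmem (inv_mem hy')) _
      (inv_mem (mul_mem (mem_zpowers x') (inv_mem hy')))
  have h1 : (x * x'⁻¹) ^ (m * m') = 1 := by
    rw [hab, hcomm.mul_pow, pow_mul, hm1, one_pow, one_mul, mul_comm m, pow_mul, inv_pow, hm1',
      inv_one, one_pow]
  rcases (hq.dvd_mul).mp (hqd.trans (orderOf_dvd_of_pow_eq_one h1)) with h2 | h2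
  · exact hm h2
  · exact hm' h2

theorem part_mem_iSet {r : ℕ} [Fact r.Prime] {x : G} (hx : x ∈ iSet s) : part r x ∈ iSet s := by
  obtain ⟨i, hi⟩ := mem_zpowers_iff.mp (part_spec r x).1
  rw [← hi]
  exact zpow_mem_iSet hx i

theorem prod_pow_factorization {d n : ℕ} (hn : n ≠ 0) (hd : d ∣ n) :
    ∏ p ∈ n.primeFactors, p ^ d.factorization p = d := by
  have hd0 : d ≠ 0 := fun e => hn (Nat.eq_zero_of_zero_dvd (e ▸ hd))
  rw [← Finset.prod_subset (Nat.primeFactors_mono hd hn) (fun p _ hp => by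
    rw [Finsupp.notMem_support_iff.mp (by rwa [Nat.support_factorization]), pow_zero])]
  exact Nat.prod_factorization_pow_eq_self hd0

/-- Elements inverted by `s * s` in invariant Sylow subgroups for different primes commute. -/
theorem commute_iSet (h : Hyp s) (P : ℕ → Subgroup G)
    (hP : ∀ r, r.Prime → (∀ x ∈ P r, s x ∈ P r) ∧
      Nat.card (P r) = r ^ (Nat.card G).factorization r ∧
      ∀ R : Subgroup G, IsPGroup r R → (∀ x ∈ R, s x ∈ R) → R ≤ P r)
    {r t : ℕ} (hr : r ∈ (Nat.card G).primeFactors) (ht : t ∈ (Nat.card G).primeFactors)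
    (hrt : r ≠ t) {a b : G} (ha : a ∈ iSet s) (haP : a ∈ P r) (hb : b ∈ iSet s)
    (hbP : b ∈ P t) : Commute a b := by
  classical
  set n := Nat.card G with hn
  have hn0 : n ≠ 0 := Nat.card_pos.ne'
  set R := n.primeFactors with hR
  have hprime : ∀ q : R, (q : ℕ).Prime := fun q => Nat.prime_of_mem_primeFactors q.2
  let F : ↥(iSet s) → (∀ q : R, ↥(iSet s ∩ (P q : Set G))) := fun x q =>
    ⟨part q x.1, by
      haveI := Fact.mk (hprime q)
      exact ⟨part_mem_iSet x.2, mem_invSylow h (hP q (hprime q)).2.2 (part_mem_iSet x.2)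
        (part_spec (q : ℕ) x.1).2.1⟩⟩
  have hinj : Function.Injective F := fun x x' e => Subtype.ext <|
    eq_of_part_eq (R := R) (fun q hq hd => Nat.mem_primeFactors.mpr ⟨hq, hd, hn0⟩)
      fun q hq => congrArg Subtype.val (congrFun e ⟨q, hq⟩)
  have hC : ∀ q : R, Nat.card ↥(cSub s ⊓ P q : Subgroup G) =
      (q : ℕ) ^ (Nat.card (cSub s)).factorization q := by
    intro q
    haveI := Fact.mk (hprime q)
    obtain ⟨T⟩ := (inferInstance : Nonempty (Sylow (q : ℕ) (cSub s)))
    have hT : (T : Subgroup (cSub s)).map (cSub s).subtype = cSub s ⊓ P q := by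
      refine Subgroup.eq_of_le_of_card_ge (le_inf (Subgroup.map_subtype_le _)
        ((hP q (hprime q)).2.2 _ (T.2.map _) ?_)) ?_
      · rintro _ ⟨c, hc, rfl⟩
        rw [Subgroup.coe_subtype, apply_cSub h c.2]
        exact inv_mem ⟨c, hc, rfl⟩
      · rw [Subgroup.card_map_of_injective (cSub s).subtype_injective, T.card_eq_multiplicity]
        obtain ⟨j, hj⟩ := IsPGroup.iff_card.mp
          ((IsPGroup.of_card (hP q (hprime q)).2.1).to_le (inf_le_right : cSub s ⊓ P q ≤ P q))
        rw [hj]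
        refine Nat.pow_le_pow_right (hprime q).pos ?_
        rw [← (hprime q).pow_dvd_iff_le_factorization Nat.card_pos.ne', ← hj]
        exact Subgroup.card_dvd_of_le inf_le_left
    rw [← hT, Subgroup.card_map_of_injective (cSub s).subtype_injective, T.card_eq_multiplicity]
  have hcards : Nat.card (∀ q : R, ↥(iSet s ∩ (P q : Set G))) = Nat.card ↥(iSet s) := by
    rw [Nat.card_pi]
    have h1 : ∀ q : R, Nat.card ↥(cSub s ⊓ P q : Subgroup G) *
        Nat.card ↥(iSet s ∩ (P q : Set G)) = (q : ℕ) ^ n.factorization q := fun q =>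
      (card_decomp h (P q) (hP q (hprime q)).1).trans (hP q (hprime q)).2.1
    have h2 : (∏ q : R, Nat.card ↥(cSub s ⊓ P q : Subgroup G)) *
        ∏ q : R, Nat.card ↥(iSet s ∩ (P q : Set G)) = n := by
      rw [← Finset.prod_mul_distrib, Finset.prod_congr rfl fun q _ => h1 q,
        Finset.prod_coe_sort R fun q => q ^ n.factorization q]
      exact prod_pow_factorization hn0 dvd_rfl
    have h3 : (∏ q : R, Nat.card ↥(cSub s ⊓ P q : Subgroup G)) = Nat.card (cSub s) := by
      rw [Finset.prod_congr rfl fun q _ => hC q,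
        Finset.prod_coe_sort R fun q => q ^ (Nat.card (cSub s)).factorization q]
      exact prod_pow_factorization hn0 (Subgroup.card_subgroup_dvd_card _)
    rw [h3] at h2
    have h4 := card_decomp h ⊤ fun x _ => mem_top _
    rw [inf_top_eq, Subgroup.coe_top, Set.inter_univ, Subgroup.card_top] at h4
    exact Nat.eq_of_mul_eq_mul_left Nat.card_pos (h2.trans h4.symm)
  have hsurj : Function.Surjective F :=
    ((Nat.bijective_iff_injective_and_card F).mpr ⟨hinj, hcards.symm⟩).2
  have h1mem : ∀ q : R, (1 : G) ∈ iSet s ∩ (P q : Set G) :=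
    fun q => ⟨by simp [iSet], one_mem (P q)⟩
  obtain ⟨x, hx⟩ := hsurj (Function.update
    (Function.update (fun q => ⟨1, h1mem q⟩) ⟨r, hr⟩ ⟨a, ha, haP⟩) ⟨t, ht⟩ ⟨b, hb, hbP⟩)
  haveI := Fact.mk (hprime ⟨r, hr⟩)
  haveI := Fact.mk (hprime ⟨t, ht⟩)
  have hea : part r x.1 = a := by
    have := congrArg Subtype.val (congrFun hx ⟨r, hr⟩)
    rwa [Function.update_of_ne (fun e => hrt (congrArg Subtype.val e)),
      Function.update_self] at this
  have heb : part t x.1 = b := by
    have := congrArg Subtype.val (congrFun hx ⟨t, ht⟩)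
    rwa [Function.update_self] at this
  obtain ⟨i, hi⟩ := mem_zpowers_iff.mp (part_spec r x.1).1
  obtain ⟨j, hj⟩ := mem_zpowers_iff.mp (part_spec t x.1).1
  rw [← hea, ← heb, ← hi, ← hj]
  exact (Commute.refl x.1).zpow_zpow i j

theorem nilpotent_sup_of_commute {A B : Subgroup G} (hA : Group.IsNilpotent A)
    (hB : Group.IsNilpotent B) (h : A ≤ centralizer (B : Set G)) :
    Group.IsNilpotent ↥(A ⊔ B) := by
  set H := A ⊔ B with hH
  have hAB : B ≤ centralizer (A : Set G) := le_centralizer_iff.1 h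
  have hnA : (A.subgroupOf H).Normal := normal_subgroupOf_of_le_normalizer
    (sup_le le_normalizer (hAB.trans (centralizer_le_normalizer _)))
  have hnB : (B.subgroupOf H).Normal := normal_subgroupOf_of_le_normalizer
    (sup_le (h.trans (centralizer_le_normalizer _)) le_normalizer)
  have htop : A.subgroupOf H ⊔ B.subgroupOf H = ⊤ := by
    rw [← subgroupOf_sup le_sup_left le_sup_right, subgroupOf_self]
  have := hA
  have := hB
  have h3 := Cores.nilpotent_sup (A.subgroupOf H) (B.subgroupOf H)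
    (Group.nilpotent_of_mulEquiv (subgroupOfEquivOfLe le_sup_left).symm)
    (Group.nilpotent_of_mulEquiv (subgroupOfEquivOfLe le_sup_right).symm)
  rw [htop] at h3
  exact Group.isNilpotent_top.1 h3

/-- The subgroup generated by the elements inverted by `s * s` is normal and nilpotent. -/
theorem closure_iSet (h : Hyp s) :
    (closure (iSet s)).Normal ∧ Group.IsNilpotent (closure (iSet s)) := by
  classical
  constructor
  · refine ⟨fun x hx g => ?_⟩
    obtain ⟨c, hc, -, y, hy, -, rfl⟩ := exists_decomp h ⊤ (fun z _ => mem_top _) (mem_top g)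
    have hy' : y * x * y⁻¹ ∈ closure (iSet s) :=
      mul_mem (mul_mem (subset_closure hy) hx) (inv_mem (subset_closure hy))
    have hle : (closure (iSet s)).map (MulAut.conj c).toMonoidHom ≤ closure (iSet s) := by
      rw [MonoidHom.map_closure]
      refine closure_mono ?_
      rintro _ ⟨z, hz, rfl⟩
      exact conj_mem_iSet hc hz
    have := hle (mem_map_of_mem _ hy')
    simpa [MulAut.conj_apply, mul_assoc] using this
  · choose Q hQ hQmax using fun r : {r : ℕ // r.Prime} =>
      @exists_invSylow G _ _ s h r.1 ⟨r.2⟩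
    let P : ℕ → Subgroup G := fun r => if hr : r.Prime then (Q ⟨r, hr⟩ : Subgroup G) else ⊥
    have hP : ∀ r, r.Prime → (∀ x ∈ P r, s x ∈ P r) ∧
        Nat.card (P r) = r ^ (Nat.card G).factorization r ∧
        ∀ R : Subgroup G, IsPGroup r R → (∀ x ∈ R, s x ∈ R) → R ≤ P r := by
      intro r hr
      haveI := Fact.mk hr
      simp only [P, dif_pos hr]
      exact ⟨hQ _, (Q ⟨r, hr⟩).card_eq_multiplicity, hQmax ⟨r, hr⟩⟩
    have key : ∀ t : Finset ℕ, t ⊆ (Nat.card G).primeFactors →
        Group.IsNilpotent ↥(t.sup fun r => closure (iSet s ∩ (P r : Set G))) ∧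
        ∀ r ∈ (Nat.card G).primeFactors, r ∉ t →
          closure (iSet s ∩ (P r : Set G)) ≤
            centralizer (((t.sup fun q => closure (iSet s ∩ (P q : Set G))) : Subgroup G) : Set G) := by
      intro t
      induction t using Finset.induction_on with
      | empty =>
        intro _
        refine ⟨?_, fun r _ _ => ?_⟩
        · rw [Finset.sup_empty]; infer_instance
        · rw [Finset.sup_empty]
          intro z _
          rw [mem_centralizer_iff]
          intro w hw
          rw [mem_bot.mp hw, one_mul, mul_one]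
      | insert q t hq ih =>
        intro hsub
        obtain ⟨hq', hsub'⟩ := Finset.insert_subset_iff.mp hsub
        obtain ⟨ihn, ihc⟩ := ih hsub'
        rw [Finset.sup_insert]
        refine ⟨?_, ?_⟩
        · haveI := Fact.mk (Nat.prime_of_mem_primeFactors hq')
          have hp : IsPGroup q ↥(closure (iSet s ∩ (P q : Set G))) :=
            (IsPGroup.of_card (hP q (Nat.prime_of_mem_primeFactors hq')).2.1).to_le
              ((closure_le _).mpr Set.inter_subset_right)
          exact nilpotent_sup_of_commute hp.isNilpotent ihn (ihc q hq' hq)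
        · intro r hr hr'
          rw [Finset.mem_insert, not_or] at hr'
          rw [le_centralizer_iff]
          refine sup_le ?_ (le_centralizer_iff.mp (ihc r hr hr'.2))
          rw [closure_le]
          intro b hb
          rw [SetLike.mem_coe, mem_centralizer_iff]
          intro z hz
          have : closure (iSet s ∩ (P r : Set G)) ≤ centralizer ({b} : Set G) := by
            rw [closure_le]
            intro a ha
            rw [SetLike.mem_coe, mem_centralizer_singleton_iff]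
            exact commute_iSet h P hP hr hq' hr'.1 ha.1 ha.2 hb.1 hb.2
          exact mem_centralizer_singleton_iff.mp (this hz)
    have hall := (key _ subset_rfl).1
    refine Cores.isNilpotent_of_le ?_ hall
    rw [closure_le]
    intro x hx
    refine Transfer.mem_of_forall_primePow fun q hq y hy ⟨k, hk⟩ => ?_
    haveI := Fact.mk hq
    rcases Nat.eq_zero_or_pos k with rfl | hk0
    · rw [pow_zero, orderOf_eq_one_iff] at hk; rw [hk]; exact one_mem _
    have hyI : y ∈ iSet s := by
      obtain ⟨i, rfl⟩ := mem_zpowers_iff.mp hy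
      exact zpow_mem_iSet hx i
    have hqn : q ∈ (Nat.card G).primeFactors := Nat.mem_primeFactors.mpr
      ⟨hq, ((dvd_pow_self q hk0.ne').trans hk.symm.dvd).trans (orderOf_dvd_natCard y),
        Nat.card_pos.ne'⟩
    exact Finset.le_sup (f := fun r => closure (iSet s ∩ (P r : Set G))) hqn
      (subset_closure ⟨hyI, mem_invSylow h (hP q hq).2.2 hyI
        (IsPGroup.of_card (by rw [Nat.card_zpowers, hk]))⟩)

/-- **Gorenstein-Herstein.** -/
theorem isSolvable_of_fpf_four (s : G ≃* G) (hfpf : ∀ g, s g = g → g = 1)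
    (h4 : ∀ g, s (s (s (s g))) = g) : Group.IsSolvable G := by
  have h : Hyp s := ⟨hfpf, h4⟩
  obtain ⟨hn, hnil⟩ := closure_iSet h
  haveI := hn
  haveI := hnil
  haveI : Group.IsSolvable (G ⧸ closure (iSet s)) := by
    refine Group.isSolvable_of_comm fun a b => ?_
    induction a using QuotientGroup.induction_on with
    | _ x =>
      induction b using QuotientGroup.induction_on with
      | _ y =>
        obtain ⟨c, hc, -, u, hu, -, rfl⟩ := exists_decomp h ⊤ (fun z _ => mem_top _) (mem_top x)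
        obtain ⟨d, hd, -, v, hv, -, rfl⟩ := exists_decomp h ⊤ (fun z _ => mem_top _) (mem_top y)
        rw [QuotientGroup.mk_mul, QuotientGroup.mk_mul,
          (QuotientGroup.eq_one_iff u).mpr (subset_closure hu),
          (QuotientGroup.eq_one_iff v).mpr (subset_closure hv), mul_one, mul_one,
          ← QuotientGroup.mk_mul, ← QuotientGroup.mk_mul, (commute_cSub h hc hd).eq]
  exact Group.isSolvable_of_ker_le_range (closure (iSet s)).subtype
    (QuotientGroup.mk' (closure (iSet s))) (by rw [QuotientGroup.ker_mk', Subgroup.range_subtype])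

end Cfsg.Agent.FPFFour
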